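import Groth.Agent.Lib.DerivedOX.Exists
import Mathlib.Algebra.Homology.DerivedCategory.TStructure
import Mathlib.Algebra.Homology.HomotopyCategory.Triangulated
import Mathlib.CategoryTheory.Triangulated.Adjunction
import Mathlib.CategoryTheory.Abelian.GrothendieckCategory.EnoughInjectives

/-!
# The cohomological functors of the right derived functor of an additive functor
-/

universe w v u v' u'

open CategoryTheory Category Limits

namespace Groth.Agent.Lib.SpecSeq.RightHom

open Groth.Agent.Lib.DerivedOX.RightDerived

variable {B : Type u} [Category.{v} B] [Abelian B] [HasDerivedCategory.{w} B]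
  [(DerivedCategory.Qh (C := B)).IsLeftAdjoint]

noncomputable instance resCommShift : (resFunctor B).CommShift ℤ :=
  (resAdj B).rightAdjointCommShift ℤ

instance resAdjCommShift : (resAdj B).CommShift ℤ :=
  (resAdj B).commShift_of_leftAdjoint ℤ

instance resTriangulated : (resFunctor B).IsTriangulated :=
  (resAdj B).isTriangulated_rightAdjoint

variable {C : Type u'} [Category.{v'} C] [Abelian C] (T : B ⥤ C) [T.Additive]

/-- `H⁰` of the total right derived functor. -/
noncomputable def RH0 : DerivedCategory B ⥤ C :=
  (resFunctor B ⋙ T.mapHomotopyCategory (.up ℤ)) ⋙ HomotopyCategory.homologyFunctor C (.up ℤ) 0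

instance RH0_isHomological : (RH0 T).IsHomological := by
  unfold RH0
  infer_instance

noncomputable instance RH0_shiftSequence : (RH0 T).ShiftSequence ℤ :=
  Functor.ShiftSequence.tautological _ _

/-- `Hⁿ` of the total right derived functor. -/
noncomputable abbrev RH (n : ℤ) : DerivedCategory B ⥤ C := (RH0 T).shift n

/-- `RH n` is computed by K-injective resolutions. -/
noncomputable def RHIso (n : ℤ) :
    RH T n ≅ resFunctor B ⋙ (T.mapHomotopyCategory (.up ℤ) ⋙ HomotopyCategory.homologyFunctor C (.up ℤ) n) :=
  (Functor.associator _ _ _).symm ≪≫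
    Functor.isoWhiskerRight ((resFunctor B ⋙ T.mapHomotopyCategory (.up ℤ)).commShiftIso n) _ ≪≫
    Functor.associator _ _ _ ≪≫
    Functor.isoWhiskerLeft _ ((HomotopyCategory.homologyFunctor C (.up ℤ) 0).isoShift n) ≪≫
    Functor.associator _ _ _

instance RH_additive (n : ℤ) : (RH T n).Additive :=
  Functor.additive_of_iso (RHIso T n).symm

/-- The comparison map `Hⁿ(T K) ⟶ RHⁿ(K)`. -/
noncomputable def cmp (n : ℤ) :
    T.mapHomologicalComplex (.up ℤ) ⋙ HomologicalComplex.homologyFunctor C (.up ℤ) n ⟶
      DerivedCategory.Q ⋙ RH T n :=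
  Functor.whiskerLeft _ (HomotopyCategory.homologyFunctorFactors C (.up ℤ) n).inv ≫
    (Functor.associator _ _ _).inv ≫
    Functor.whiskerRight (T.mapHomotopyCategoryFactors (.up ℤ)).inv _ ≫
    (Functor.associator _ _ _).hom ≫
    Functor.whiskerLeft (HomotopyCategory.quotient B (.up ℤ))
      (derivedUnit (T.mapHomotopyCategory (.up ℤ) ⋙ HomotopyCategory.homologyFunctor C (.up ℤ) n) ≫
        Functor.whiskerLeft _ (RHIso T n).inv) ≫
    (Functor.associator _ _ _).inv ≫
    Functor.whiskerRight (DerivedCategory.quotientCompQhIso B).hom _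

/-- `cmp` is an isomorphism on K-injective complexes. -/
lemma isIso_cmp_of_isKInjective (n : ℤ) (I : CochainComplex B ℤ) [I.IsKInjective] :
    IsIso ((cmp T n).app I) := by
  have := isIso_unit_of_isKInjective I
  have : IsIso ((derivedUnit (T.mapHomotopyCategory (.up ℤ) ⋙
      HomotopyCategory.homologyFunctor C (.up ℤ) n)).app
        ((HomotopyCategory.quotient B (.up ℤ)).obj I)) := by
    rw [derivedUnit_app]
    infer_instance
  simp only [cmp, NatTrans.comp_app, Functor.whiskerLeft_app, Functor.whiskerRight_app,
    Functor.associator_inv_app, Functor.associator_hom_app]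
  infer_instance

end Groth.Agent.Lib.SpecSeq.RightHom
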