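import Groth.Agent.Lib.SpecSeq.RightHom
import Mathlib.Algebra.Homology.DerivedCategory.SingleTriangle
import Mathlib.Algebra.Homology.Factorizations.CM5a
import Mathlib.Algebra.Homology.HomotopyCategory.MappingCone
import Mathlib.CategoryTheory.Abelian.Injective.Extend
import Mathlib.CategoryTheory.Abelian.RightDerived

/-!
# Bounded below complexes of acyclic objects compute right derived functors
-/

set_option linter.unusedSectionVars false
set_option linter.style.haveILetI false

universe w v u v' u'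

open CategoryTheory Category Limits Pretriangulated

namespace Groth.Agent.Lib.SpecSeq.AcyclicComplex

open RightHom

variable {B : Type u} [Category.{v} B] [Abelian B] [HasDerivedCategory.{w} B]
  [(DerivedCategory.Qh (C := B)).IsLeftAdjoint]
  {C : Type u'} [Category.{v'} C] [Abelian C] (T : B ⥤ C) [T.Additive]

lemma isKInjective_of_isStrictlyGE (L : CochainComplex B ℤ) (a : ℤ) [L.IsStrictlyGE a]
    (hL : ∀ k, Injective (L.X k)) : L.IsKInjective :=
  CochainComplex.isKInjective_of_injective L a

/-- `RHⁿ` of an object. -/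
noncomputable abbrev RS (n : ℤ) (M : B) : C := (RH T n).obj ((DerivedCategory.singleFunctor B 0).obj M)

/-- An object is acyclic for the right derived functor. -/
def Acyc (M : B) : Prop := ∀ n : ℤ, 0 < n → IsZero (RS T n M)

lemma isZero_homology_map_of_lt (L : CochainComplex B ℤ) (a : ℤ) [L.IsStrictlyGE a] (n : ℤ)
    (hn : n < a) : IsZero (((T.mapHomologicalComplex (.up ℤ)).obj L).homology n) :=
  ShortComplex.isZero_homology_of_isZero_X₂ _
    (T.map_isZero (CochainComplex.isZero_of_isStrictlyGE L a n hn))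

lemma acyc_of_isZero {M : B} (hM : IsZero M) : Acyc T M := fun _ _ =>
  Functor.map_isZero _ (Functor.map_isZero _ hM)

lemma acyc_of_iso {M M' : B} (e : M ≅ M') (h : Acyc T M) : Acyc T M' := fun n hn =>
  (h n hn).of_iso ((DerivedCategory.singleFunctor B 0 ⋙ RH T n).mapIso e.symm)

lemma acyc_biprod {M M' : B} (h : Acyc T M) (h' : Acyc T M') : Acyc T (M ⊞ M') := fun n hn => by
  haveI : PreservesBinaryBiproduct M M' (DerivedCategory.singleFunctor B 0 ⋙ RH T n) :=
    preservesBinaryBiproduct_of_preservesBiproduct _ _ _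
  have : ((DerivedCategory.singleFunctor B 0 ⋙ RH T n).obj (M ⊞ M') ≅ _) :=
    (DerivedCategory.singleFunctor B 0 ⋙ RH T n).mapBiprod M M'
  exact IsZero.of_iso ((biprod_isZero_iff _ _).2 ⟨h n hn, h' n hn⟩) this

lemma acyc_injective (I : B) [Injective I] : Acyc T I := fun n hn => by
  have : ((CochainComplex.singleFunctor B 0).obj I).IsKInjective :=
    isKInjective_of_isStrictlyGE _ 0 fun k => by
      by_cases hk : k = 0
      · subst hk
        exact Injective.of_iso (HomologicalComplex.singleObjXSelf (ComplexShape.up ℤ) 0 I).symm inferInstance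
      · exact IsZero.injective (HomologicalComplex.isZero_single_obj_X (ComplexShape.up ℤ) 0 I k hk)
  have := isIso_cmp_of_isKInjective T n ((CochainComplex.singleFunctor B 0).obj I)
  exact IsZero.of_iso (ShortComplex.isZero_homology_of_isZero_X₂ _
      (T.map_isZero (HomologicalComplex.isZero_single_obj_X (ComplexShape.up ℤ) 0 I n (by lia))))
    (asIso ((cmp T n).app ((CochainComplex.singleFunctor B 0).obj I))).symm

variable [EnoughInjectives B]

/-- `RH` is left t-exact. -/
lemma isZero_RH_of_isGE (Y : DerivedCategory B) (a : ℤ) [Y.IsGE a] (n : ℤ) (hn : n < a) :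
    IsZero ((RH T n).obj Y) := by
  obtain ⟨K, hK, ⟨e⟩⟩ := Y.exists_iso_Q_obj_of_isGE a
  obtain ⟨L, i, _, hL, _⟩ := CochainComplex.Plus.modelCategoryQuillen.exists_quasiIso_injective K a
  have := isKInjective_of_isStrictlyGE L a hL
  have := isIso_cmp_of_isKInjective T n L
  refine IsZero.of_iso ?_ ((RH T n).mapIso (e ≪≫ asIso (DerivedCategory.Q.map i)) ≪≫
    (asIso ((cmp T n).app L)).symm)
  exact isZero_homology_map_of_lt T L a n hn

/-- The comparison map is an isomorphism on resolved complexes. -/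
lemma isIso_cmp_of_quasiIso (n : ℤ) {K L : CochainComplex B ℤ} (i : K ⟶ L) [QuasiIso i]
    [L.IsKInjective] [IsIso (HomologicalComplex.homologyMap ((T.mapHomologicalComplex (.up ℤ)).map i) n)] :
    IsIso ((cmp T n).app K) := by
  have := isIso_cmp_of_isKInjective T n L
  have e := (cmp T n).naturality i
  have : IsIso (DerivedCategory.Q.map i) := inferInstance
  have : IsIso ((cmp T n).app K ≫ (DerivedCategory.Q ⋙ RH T n).map i) := by
    rw [← e]
    exact IsIso.comp_isIso' ‹_› ‹_›
  have h' : IsIso ((DerivedCategory.Q ⋙ RH T n).map i) :=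
    inferInstanceAs (IsIso ((RH T n).map (DerivedCategory.Q.map i)))
  exact IsIso.of_isIso_comp_right _ ((DerivedCategory.Q ⋙ RH T n).map i)

variable [PreservesFiniteLimits T]

/-- In degree zero the comparison map is an isomorphism on objects. -/
lemma isIso_cmp_single (M : B) :
    IsIso ((cmp T 0).app ((CochainComplex.singleFunctor B 0).obj M)) := by
  let R := injectiveResolution M
  have := isKInjective_of_isStrictlyGE R.cochainComplex 0 inferInstance
  have hq : QuasiIsoAt R.ι' 0 := inferInstance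
  rw [quasiIsoAt_iff' _ (-1) 0 1 (by simp) (by simp),
    ShortComplex.quasiIso_iff_of_zeros _ (HomologicalComplex.single_obj_d (ComplexShape.up ℤ) 0 M (-1) 0)
      (HomologicalComplex.single_obj_d (ComplexShape.up ℤ) 0 M 0 1)
      ((CochainComplex.isZero_of_isStrictlyGE R.cochainComplex 0 (-1) (by lia)).eq_of_src _ _)] at hq
  have hmono : Mono (R.ι'.f 0) := hq.2
  have hmapped : QuasiIsoAt ((T.mapHomologicalComplex (.up ℤ)).map R.ι') 0 := by
    rw [quasiIsoAt_iff' _ (-1) 0 1 (by simp) (by simp),
      ShortComplex.quasiIso_iff_of_zeros _ ?_ ?_ ?_]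
    · refine ⟨?_, inferInstanceAs (Mono (T.map (R.ι'.f 0)))⟩
      have := hq.2
      exact ShortComplex.exact_of_f_is_kernel _ (KernelFork.mapIsLimit _ hq.1.fIsKernel T)
    · exact (congrArg T.map (HomologicalComplex.single_obj_d (ComplexShape.up ℤ) 0 M (-1) 0)).trans (T.map_zero _ _)
    · exact (congrArg T.map (HomologicalComplex.single_obj_d (ComplexShape.up ℤ) 0 M 0 1)).trans (T.map_zero _ _)
    · exact (T.map_isZero
        (CochainComplex.isZero_of_isStrictlyGE R.cochainComplex 0 (-1) (by lia))).eq_of_src _ _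
  rw [quasiIsoAt_iff_isIso_homologyMap] at hmapped
  exact isIso_cmp_of_quasiIso T 0 R.ι'

variable {T}

omit [EnoughInjectives B] [PreservesFiniteLimits T] in
lemma exact_mid {S : ShortComplex B} (hS : S.ShortExact) (n : ℤ) :
    ∃ w, (ShortComplex.mk ((RH T n).map hS.singleTriangle.mor₂)
      ((RH0 T).homologySequenceδ hS.singleTriangle n (n + 1) rfl) w).Exact :=
  ⟨_, (RH0 T).homologySequence_exact₃ _ hS.singleTriangle_distinguished n (n + 1) rfl⟩

omit [EnoughInjectives B] [PreservesFiniteLimits T] in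
lemma acyc_X₃ {S : ShortComplex B} (hS : S.ShortExact) (h₁ : Acyc T S.X₁) (h₂ : Acyc T S.X₂) :
    Acyc T S.X₃ := fun n hn => by
  obtain ⟨w, hw⟩ := exact_mid (T := T) hS n
  exact hw.isZero_X₂ ((h₂ n hn).eq_of_src _ _) ((h₁ (n + 1) (by lia)).eq_of_tgt _ _)

lemma epi_map_g {S : ShortComplex B} (hS : S.ShortExact) (h₁ : Acyc T S.X₁) : Epi (T.map S.g) := by
  obtain ⟨w, hw⟩ := exact_mid (T := T) hS 0
  have h₂ := hw.epi_f ((h₁ 1 one_pos).eq_of_tgt _ _)
  have e := (cmp T 0).naturality ((CochainComplex.singleFunctor B 0).map S.g)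
  have := isIso_cmp_single T S.X₂
  have := isIso_cmp_single T S.X₃
  have h₃ : Epi ((DerivedCategory.Q ⋙ RH T 0).map ((CochainComplex.singleFunctor B 0).map S.g)) := h₂
  let Φ := T.mapHomologicalComplex (.up ℤ) ⋙ HomologicalComplex.homologyFunctor C (.up ℤ) 0
  have h₄ : Epi (Φ.map ((CochainComplex.singleFunctor B 0).map S.g)) := by
    rw [(IsIso.eq_comp_inv _).2 e]
    exact epi_comp' (epi_comp' inferInstance h₃) inferInstance
  let N : T ≅ (CochainComplex.singleFunctor B 0) ⋙ T.mapHomologicalComplex (.up ℤ) ⋙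
      HomologicalComplex.homologyFunctor C (.up ℤ) 0 :=
    T.rightUnitor.symm ≪≫
      Functor.isoWhiskerLeft T (HomologicalComplex.homologyFunctorSingleIso C (.up ℤ) 0).symm ≪≫
      (Functor.associator _ _ _).symm ≪≫
      Functor.isoWhiskerRight (HomologicalComplex.singleMapHomologicalComplex T (.up ℤ) 0).symm _ ≪≫
      Functor.associator _ _ _
  have : Epi ((CochainComplex.singleFunctor B 0 ⋙ Φ).map S.g) := h₄
  rw [show T.map S.g = N.hom.app S.X₂ ≫ (CochainComplex.singleFunctor B 0 ⋙ Φ).map S.g ≫ N.inv.app S.X₃ from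
    (NatIso.naturality_2 N S.g).symm]
  exact epi_comp' inferInstance (epi_comp' this inferInstance)

variable (T)

/-- Acyclic bounded below complexes of acyclic objects stay acyclic after applying `T`. -/
lemma exactAt_map_of_acyclic (N : CochainComplex B ℤ) (a : ℤ) [N.IsStrictlyGE a] (hN : N.Acyclic)
    (hX : ∀ k, Acyc T (N.X k)) (k : ℤ) :
    ((T.mapHomologicalComplex (.up ℤ)).obj N).ExactAt k := by
  have hepi : ∀ i j : ℤ, i + 1 = j → Epi (N.toCycles i j) := fun i j h =>
    Preadditive.epi_of_isZero_cokernel' _ (N.homologyIsCokernel i j (by simp; lia))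
      ((N.exactAt_iff_isZero_homology j).1 (hN j))
  have hcyc : ∀ m : ℕ, Acyc T (N.cycles (a - 1 + m)) := fun m => by
    induction m with
    | zero =>
      refine acyc_of_isZero T (IsZero.of_mono (N.iCycles _) ?_)
      exact CochainComplex.isZero_of_isStrictlyGE N a _ (by lia)
    | succ m ih =>
      obtain ⟨i, hi⟩ : ∃ i : ℤ, i = a - 1 + m := ⟨_, rfl⟩
      rw [← hi] at ih
      rw [show a - 1 + ((m + 1 : ℕ) : ℤ) = i + 1 by lia]
      have := hepi i (i + 1) rfl
      let S := ShortComplex.mk (N.iCycles i) (N.toCycles i (i + 1))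
        (by rw [← cancel_mono (N.iCycles (i + 1)), Category.assoc, HomologicalComplex.toCycles_i,
          HomologicalComplex.iCycles_d, zero_comp])
      have hS : S.ShortExact := by
        refine ShortComplex.ShortExact.mk' ?_ inferInstance this
        let φ : S ⟶ ShortComplex.mk (N.iCycles i) (N.d i (i + 1)) (N.iCycles_d i (i + 1)) :=
          { τ₁ := 𝟙 _
            τ₂ := 𝟙 _
            τ₃ := N.iCycles (i + 1)
            comm₁₂ := (id_comp _).trans (comp_id _).symm
            comm₂₃ := (id_comp _).trans (N.toCycles_i i (i + 1)).symm }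
        exact (ShortComplex.exact_iff_of_epi_of_isIso_of_mono φ).2
          (ShortComplex.exact_of_f_is_kernel _ (N.cyclesIsKernel i (i + 1) (by simp)))
      exact acyc_X₃ hS ih (hX i)
  have hcyc' : ∀ j, Acyc T (N.cycles j) := fun j => by
    by_cases hj : j < a
    · exact acyc_of_isZero T (IsZero.of_mono (N.iCycles _)
        (CochainComplex.isZero_of_isStrictlyGE N a _ hj))
    · rw [show j = a - 1 + ((j - a + 1).toNat : ℤ) by lia]
      exact hcyc _
  obtain ⟨i, rfl⟩ : ∃ i : ℤ, k = i + 1 := ⟨k - 1, by lia⟩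
  have := hepi i (i + 1) rfl
  let S := ShortComplex.mk (N.iCycles i) (N.toCycles i (i + 1))
    (by rw [← cancel_mono (N.iCycles (i + 1)), Category.assoc, HomologicalComplex.toCycles_i,
      HomologicalComplex.iCycles_d, zero_comp])
  have hS : S.ShortExact := by
    refine ShortComplex.ShortExact.mk' ?_ inferInstance this
    let φ : S ⟶ ShortComplex.mk (N.iCycles i) (N.d i (i + 1)) (N.iCycles_d i (i + 1)) :=
      { τ₁ := 𝟙 _
        τ₂ := 𝟙 _
        τ₃ := N.iCycles (i + 1)
        comm₁₂ := (id_comp _).trans (comp_id _).symm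
        comm₂₃ := (id_comp _).trans (N.toCycles_i i (i + 1)).symm }
    exact (ShortComplex.exact_iff_of_epi_of_isIso_of_mono φ).2
      (ShortComplex.exact_of_f_is_kernel _ (N.cyclesIsKernel i (i + 1) (by simp)))
  have : Epi (T.map (N.toCycles i (i + 1))) := epi_map_g hS (hcyc' i)
  rw [HomologicalComplex.exactAt_iff' _ i (i + 1) (i + 2) (by simp) (by simp; lia)]
  let ψ : ((T.mapHomologicalComplex (.up ℤ)).obj N).sc' i (i + 1) (i + 2) ⟶
      ShortComplex.mk (T.map (N.iCycles (i + 1))) (T.map (N.d (i + 1) (i + 2)))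
        (by rw [← T.map_comp, HomologicalComplex.iCycles_d, T.map_zero]) :=
    { τ₁ := T.map (N.toCycles i (i + 1))
      τ₂ := 𝟙 _
      τ₃ := 𝟙 _
      comm₁₂ := ((T.map_comp _ _).symm.trans (congrArg T.map (N.toCycles_i i (i + 1)))).trans
        (comp_id _).symm
      comm₂₃ := (id_comp _).trans (comp_id _).symm }
  have : Mono (T.map (N.iCycles (i + 1))) := inferInstance
  haveI : Epi ψ.τ₁ := ‹Epi (T.map (N.toCycles i (i + 1)))›
  haveI : IsIso ψ.τ₂ := inferInstanceAs (IsIso (𝟙 _))
  haveI : Mono ψ.τ₃ := inferInstanceAs (Mono (𝟙 _))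
  exact (ShortComplex.exact_iff_of_epi_of_isIso_of_mono ψ).2 (ShortComplex.exact_of_f_is_kernel _
    (KernelFork.mapIsLimit _ (N.cyclesIsKernel (i + 1) (i + 2) (by simp; lia)) T))

/-- A morphism of cochain complexes is a quasi-isomorphism iff its cone is acyclic. -/
lemma quasiIso_iff_acyclic_mappingCone {A : Type u'} [Category.{v'} A] [Abelian A]
    {K L : CochainComplex A ℤ} (f : K ⟶ L) :
    QuasiIso f ↔ (CochainComplex.mappingCone f).Acyclic := by
  rw [← HomotopyCategory.quotient_obj_mem_subcategoryAcyclic_iff_acyclic,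
    ← HomologicalComplex.mem_quasiIso_iff, ← HomotopyCategory.quotient_map_mem_quasiIso_iff,
    HomotopyCategory.quasiIso_eq_trW_subcategoryAcyclic]
  exact (HomotopyCategory.subcategoryAcyclic A).trW_iff_of_distinguished _
    (HomotopyCategory.mappingCone_triangleh_distinguished f)

/-- **Acyclic resolutions compute the derived functor.** -/
theorem isIso_cmp_of_acyclic (K : CochainComplex B ℤ) [K.IsStrictlyGE 0]
    (hK : ∀ k, Acyc T (K.X k)) (n : ℤ) : IsIso ((cmp T n).app K) := by
  obtain ⟨L, i, _, hL, _⟩ := CochainComplex.Plus.modelCategoryQuillen.exists_quasiIso_injective K 0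
  have := isKInjective_of_isStrictlyGE L 0 hL
  have hN := CochainComplex.isStrictlyGE_mappingCone i 0 0 (-1)
  have hacyc := (quasiIso_iff_acyclic_mappingCone i).1 inferInstance
  have hT : QuasiIso ((T.mapHomologicalComplex (.up ℤ)).map i) := by
    refine (quasiIso_iff_acyclic_mappingCone _).2 fun k => ?_
    refine HomologicalComplex.ExactAt.of_iso ?_ (CochainComplex.mappingCone.mapHomologicalComplexIso i T)
    exact exactAt_map_of_acyclic T _ (-1) hacyc (fun j => acyc_of_iso T
      (HomologicalComplex.homotopyCofiber.XIsoBiprod i j (j + 1) rfl).symm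
      (acyc_biprod T (hK (j + 1)) (have := hL j; acyc_injective T (L.X j)))) k
  exact isIso_cmp_of_quasiIso T n i

end Groth.Agent.Lib.SpecSeq.AcyclicComplex
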