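import Groth.Agent.Lib.SpecSeq.HomExt

/-!
# The natural isomorphism `RⁿHom(X, -) ≅ Extⁿ(X, -)`
-/

universe v u

open CategoryTheory Limits Opposite Abelian

namespace Groth.Agent.Lib.SpecSeq.HomExtNat

open HomExt

variable {B : Type u} [Category.{v} B] [Abelian B] [HasExt.{v} B]

section

variable {Y : B} (R : InjectiveResolution Y) (X : B) (n : ℕ)

/-- A cocycle as a morphism. -/
noncomputable def cocycle (z : (homCx R X).cycles n) : X ⟶ R.cocomplex.X n :=
  (homCx R X).iCycles n z

lemma cocycle_d (z : (homCx R X).cycles n) : cocycle R X n z ≫ R.cocomplex.d n (n + 1) = 0 :=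
  ConcreteCategory.congr_hom ((homCx R X).iCycles_d n (n + 1)) z

lemma cocycle_add (a b : (homCx R X).cycles n) :
    cocycle R X n (a + b) = cocycle R X n a + cocycle R X n b :=
  map_add ((homCx R X).iCycles n).hom a b

/-- The class of a cocycle. -/
noncomputable def cyclesMap : (homCx R X).cycles n ⟶ AddCommGrpCat.of (Ext X Y n) :=
  AddCommGrpCat.ofHom (AddMonoidHom.mk'
    (fun z => R.extMk (cocycle R X n z) (n + 1) rfl (cocycle_d R X n z))
    (fun a b => by
      rw [InjectiveResolution.add_extMk]
      congr 1
      exact cocycle_add R X n a b))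

lemma cyclesMap_apply (z : (homCx R X).cycles n) :
    cyclesMap R X n z = R.extMk (cocycle R X n z) (n + 1) rfl (cocycle_d R X n z) := rfl

lemma toCycles_cyclesMap :
    (homCx R X).toCycles ((ComplexShape.up ℕ).prev n) n ≫ cyclesMap R X n = 0 := by
  cases n with
  | zero =>
    have : (homCx R X).toCycles ((ComplexShape.up ℕ).prev 0) 0 = 0 := by
      rw [← cancel_mono ((homCx R X).iCycles 0), HomologicalComplex.toCycles_i, zero_comp,
        (homCx R X).shape _ _ (by simp)]
    rw [this, zero_comp]
  | succ m =>
    rw [show (ComplexShape.up ℕ).prev (m + 1) = m by simp]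
    ext x
    exact (R.extMk_eq_zero_iff _ (m + 2) rfl (cocycle_d R X (m + 1) _) m rfl).2
      ⟨x, (ConcreteCategory.congr_hom ((homCx R X).toCycles_i m (m + 1)) x).symm⟩

/-- Cohomology classes of `Hom(X, I•)` as `Ext` classes. -/
noncomputable def homologyMap : (homCx R X).homology n ⟶ AddCommGrpCat.of (Ext X Y n) :=
  ((homCx R X).homologyIsCokernel _ n rfl).desc
    (CokernelCofork.ofπ (cyclesMap R X n) (toCycles_cyclesMap R X n))

lemma homologyπ_homologyMap :
    (homCx R X).homologyπ n ≫ homologyMap R X n = cyclesMap R X n :=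
  ((homCx R X).homologyIsCokernel _ n rfl).fac _ WalkingParallelPair.one

lemma bijective_homologyMap : Function.Bijective (homologyMap R X n) := by
  have hπ : ∀ z, homologyMap R X n ((homCx R X).homologyπ n z) = cyclesMap R X n z := fun z =>
    ConcreteCategory.congr_hom (homologyπ_homologyMap R X n) z
  constructor
  · rw [injective_iff_map_eq_zero]
    intro h hh
    obtain ⟨z, rfl⟩ := (AddCommGrpCat.epi_iff_surjective ((homCx R X).homologyπ n)).1 inferInstance h
    rw [hπ, cyclesMap_apply] at hh
    have hinj := (AddCommGrpCat.mono_iff_injective ((homCx R X).iCycles n)).1 inferInstance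
    cases n with
    | zero =>
      have : z = 0 := hinj ((eq_zero_of_extMk_eq_zero R _ _ hh).trans (map_zero _).symm)
      rw [this, map_zero]
    | succ m =>
      obtain ⟨g, hg⟩ := (R.extMk_eq_zero_iff _ (m + 2) rfl _ m rfl).1 hh
      have : z = (homCx R X).toCycles m (m + 1) g := hinj (hg.symm.trans
        (ConcreteCategory.congr_hom ((homCx R X).toCycles_i m (m + 1)) g).symm)
      rw [this]
      exact ConcreteCategory.congr_hom ((homCx R X).toCycles_comp_homologyπ m (m + 1)) g
  · intro e
    obtain ⟨f, hf, rfl⟩ := R.extMk_surjective e (n + 1) rfl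
    obtain ⟨z, hz⟩ := (ShortComplex.ab_exact_iff _).1
      (ShortComplex.exact_of_f_is_kernel
        (ShortComplex.mk ((homCx R X).iCycles n) ((homCx R X).d n (n + 1))
          ((homCx R X).iCycles_d n (n + 1)))
        ((homCx R X).cyclesIsKernel n (n + 1) (by simp))) f hf
    refine ⟨(homCx R X).homologyπ n z, ?_⟩
    rw [hπ, cyclesMap_apply]
    congr 1

/-- `Hⁿ(Hom(X, I•)) ≅ Extⁿ(X, Y)`. -/
noncomputable def homologyIso : (homCx R X).homology n ≅ AddCommGrpCat.of (Ext X Y n) :=
  haveI : IsIso (homologyMap R X n) :=
    (ConcreteCategory.isIso_iff_bijective _).2 (bijective_homologyMap R X n)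
  asIso (homologyMap R X n)

variable {R X n}

lemma homologyIso_hom_naturality {Y' : B} {R' : InjectiveResolution Y'} {f : Y ⟶ Y'}
    (φ : R.cocomplex ⟶ R'.cocomplex) (comm : R.ι.f 0 ≫ φ.f 0 = f ≫ R'.ι.f 0) :
    HomologicalComplex.homologyMap (((homFunctor X).mapHomologicalComplex _).map φ) n ≫
        (homologyIso R' X n).hom =
      (homologyIso R X n).hom ≫ ((extFunctor n).obj (op X)).map f := by
  refine (cancel_epi ((homCx R X).homologyπ n)).1 ?_
  change (homCx R X).homologyπ n ≫ _ ≫ homologyMap R' X n =
    (homCx R X).homologyπ n ≫ homologyMap R X n ≫ _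
  rw [HomologicalComplex.homologyπ_naturality_assoc, homologyπ_homologyMap,
    reassoc_of% (homologyπ_homologyMap R X n)]
  ext z
  have hc : cocycle R' X n (HomologicalComplex.cyclesMap
      (((homFunctor X).mapHomologicalComplex _).map φ) n z) = cocycle R X n z ≫ φ.f n :=
    ConcreteCategory.congr_hom
      (HomologicalComplex.cyclesMap_i (((homFunctor X).mapHomologicalComplex _).map φ) n) z
  refine Eq.trans ?_ (R.extMk_comp_mk₀ (cocycle R X n z) (n + 1) rfl
    (cocycle_d R X n z) (g := f) { hom := φ, ι_f_zero_comp_hom_f_zero := comm.trans (by rw [CochainComplex.single₀_map_f_zero]; rfl) }).symm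
  change R'.extMk (cocycle R' X n (HomologicalComplex.cyclesMap
    (((homFunctor X).mapHomologicalComplex _).map φ) n z)) (n + 1) rfl (cocycle_d R' X n _) = _
  congr 1

end

variable [HasInjectiveResolutions B] (X : B) (n : ℕ)

/-- `RⁿHom(X, -) ≅ Extⁿ(X, -)`. -/
noncomputable def rightDerivedNatIso :
    (homFunctor X).rightDerived n ≅ (extFunctor n).obj (op X) :=
  NatIso.ofComponents
    (fun Y => (injectiveResolution Y).isoRightDerivedObj (homFunctor X) n ≪≫
      homologyIso (injectiveResolution Y) X n)
    (fun {Y Y'} f => by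
      have comm := InjectiveResolution.desc_commutes_zero f (injectiveResolution Y')
        (injectiveResolution Y)
      dsimp only [Iso.trans_hom]
      rw [← Category.assoc, InjectiveResolution.isoRightDerivedObj_hom_naturality f
        (injectiveResolution Y) (injectiveResolution Y')
        (InjectiveResolution.desc f (injectiveResolution Y') (injectiveResolution Y)) comm
        (homFunctor X) n, Category.assoc, Category.assoc]
      congr 1
      exact homologyIso_hom_naturality _ comm)

/-- Isomorphic functors have isomorphic right derived functors. -/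
noncomputable def rightDerivedMapIso {A : Type*} [Category A] [Abelian A]
    [HasInjectiveResolutions A] {D : Type*} [Category D] [Abelian D] {F F' : A ⥤ D} [F.Additive]
    [F'.Additive] (e : F ≅ F') (n : ℕ) : F.rightDerived n ≅ F'.rightDerived n where
  hom := NatTrans.rightDerived e.hom n
  inv := NatTrans.rightDerived e.inv n
  hom_inv_id := by rw [← NatTrans.rightDerived_comp, e.hom_inv_id, NatTrans.rightDerived_id]
  inv_hom_id := by rw [← NatTrans.rightDerived_comp, e.inv_hom_id, NatTrans.rightDerived_id]

end Groth.Agent.Lib.SpecSeq.HomExtNat
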