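import Mathlib.CategoryTheory.Abelian.Injective.Ext
import Mathlib.CategoryTheory.Abelian.RightDerived
import Mathlib.CategoryTheory.Preadditive.Yoneda.Basic
import Mathlib.CategoryTheory.Preadditive.Yoneda.Limits
import Mathlib.Algebra.Homology.ShortComplex.Ab

/-!
# The right derived functors of `Hom(X, -)` are the `Ext` groups
-/

universe v u

open CategoryTheory Limits Opposite Abelian

namespace Groth.Agent.Lib.SpecSeq.HomExt

variable {B : Type u} [Category.{v} B] [Abelian B] [HasExt.{v} B]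

/-- `Hom(X, -)` with values in abelian groups. -/
noncomputable abbrev homFunctor (X : B) : B ⥤ AddCommGrpCat.{v} := preadditiveCoyoneda.obj (op X)

instance homFunctor_preservesFiniteLimits (X : B) : PreservesFiniteLimits (homFunctor X) := by
  have : PreservesFiniteLimits (homFunctor X ⋙ forget AddCommGrpCat.{v}) :=
    inferInstanceAs (PreservesFiniteLimits (coyoneda.obj (op X)))
  exact ⟨fun J _ _ => ⟨fun {K} => ⟨fun {c} hc =>
    ⟨isLimitOfReflects (forget AddCommGrpCat.{v})
      (isLimitOfPreserves (homFunctor X ⋙ forget AddCommGrpCat.{v}) hc)⟩⟩⟩⟩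

variable {X Y : B} (R : InjectiveResolution Y)

/-- `Hᵖ(Hom(X, I•))`. -/
noncomputable abbrev homCx (X : B) : CochainComplex AddCommGrpCat.{v} ℕ :=
  ((homFunctor X).mapHomologicalComplex _).obj R.cocomplex

variable (X) in
/-- Cocycles map to `Ext`. -/
noncomputable def toExt (n : ℕ) :
    AddMonoidHom.ker ((homCx R X).sc' (n - 1) n (n + 1)).g.hom →+ Ext X Y n where
  toFun f := R.extMk (f.1 : X ⟶ R.cocomplex.X n) (n + 1) rfl f.2
  map_zero' := R.extMk_zero (n + 1) rfl
  map_add' f g := (R.add_extMk f.1 g.1 (n + 1) rfl f.2 g.2).symm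

lemma toExt_surjective (n : ℕ) : Function.Surjective (toExt X R n) := fun α => by
  obtain ⟨f, hf, rfl⟩ := R.extMk_surjective α (n + 1) rfl
  exact ⟨⟨f, hf⟩, rfl⟩

/-- In degree zero, `extMk` is injective. -/
lemma eq_zero_of_extMk_eq_zero (f : X ⟶ R.cocomplex.X 0) (hf : f ≫ R.cocomplex.d 0 1 = 0)
    (h : R.extMk f 1 rfl hf = 0) : f = 0 := by
  simp only [← R.extEquivCohomologyClass.apply_eq_iff_eq,
    InjectiveResolution.extEquivCohomologyClass_extMk,
    InjectiveResolution.extEquivCohomologyClass_zero,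
    CochainComplex.HomComplex.CohomologyClass.mk_eq_zero_iff] at h
  rw [CochainComplex.HomComplex.Cocycle.fromSingleMk_mem_coboundaries_iff _ _ _ _ _ (-1 : ℤ)
    (by lia)] at h
  obtain ⟨g, hg⟩ := h
  have hz : g = 0 :=
    (CochainComplex.isZero_of_isStrictlyGE R.cochainComplex 0 (-1) (by lia)).eq_of_tgt _ _
  rw [hz, zero_comp] at hg
  exact (cancel_mono (R.cochainComplexXIso (0 : ℕ) 0 rfl).inv).1 (hg.symm.trans zero_comp.symm)

lemma toExt_eq_zero_iff (n : ℕ)
    (f : AddMonoidHom.ker ((homCx R X).sc' (n - 1) n (n + 1)).g.hom) :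
    toExt X R n f = 0 ↔ f ∈ AddMonoidHom.range ((homCx R X).sc' (n - 1) n (n + 1)).abToCycles := by
  cases n with
  | zero =>
    constructor
    · intro h
      have h' : (f.1 : X ⟶ R.cocomplex.X 0) = 0 := eq_zero_of_extMk_eq_zero R f.1 f.2 h
      exact ⟨0, Subtype.ext (((homCx R X).sc' 0 0 1).f.hom.map_zero.trans h'.symm)⟩
    · rintro ⟨g, rfl⟩
      have : (((homCx R X).sc' 0 0 1).abToCycles g).1 = (0 : X ⟶ R.cocomplex.X 0) := by
        exact congrArg (fun t => t g) (congrArg AddCommGrpCat.Hom.hom ((homCx R X).shape 0 0 (by simp)))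
      have h0 : ((homCx R X).sc' 0 0 1).abToCycles g = 0 := Subtype.ext this
      rw [h0, map_zero]
  | succ m =>
    refine (R.extMk_eq_zero_iff f.1 (m + 2) rfl f.2 m rfl).trans ?_
    exact ⟨fun ⟨g, hg⟩ => ⟨g, Subtype.ext hg⟩, fun ⟨g, hg⟩ => ⟨g, congrArg Subtype.val hg⟩⟩

/-- `Hᵖ(Hom(X, I•)) ≅ Extᵖ(X, Y)`. -/
noncomputable def homologyIso (n : ℕ) :
    (homCx R X).homology n ≅ AddCommGrpCat.of (Ext X Y n) :=
  (homCx R X).homologyIsoSc' (n - 1) n (n + 1) (by cases n <;> simp) (by simp) ≪≫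
    ((homCx R X).sc' (n - 1) n (n + 1)).abHomologyIso ≪≫
    AddEquiv.toAddCommGrpIso ((QuotientAddGroup.quotientAddEquivOfEq (by
      ext f; exact (toExt_eq_zero_iff R n f).symm)).trans
      (QuotientAddGroup.quotientKerEquivOfSurjective (toExt X R n) (toExt_surjective R n)))

variable [HasInjectiveResolutions B]

/-- `RᵖHom(X, -) ≅ Extᵖ(X, -)` on objects. -/
noncomputable def rightDerivedIso (X Y : B) (n : ℕ) :
    ((homFunctor X).rightDerived n).obj Y ≅ AddCommGrpCat.of (Ext X Y n) :=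
  (injectiveResolution Y).isoRightDerivedObj (homFunctor X) n ≪≫ homologyIso _ n

end Groth.Agent.Lib.SpecSeq.HomExt
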