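import Groth.Agent.Lib.SpecSeq.Grothendieck
import Mathlib.CategoryTheory.Abelian.RightDerived
import Mathlib.CategoryTheory.Abelian.Injective.Resolution

/-!
# The Grothendieck spectral sequence of a composite functor
-/

universe w v u v' u' v'' u''

open CategoryTheory Category Limits

namespace Groth.Agent.Lib.SpecSeq.Composite

variable {A : Type u''} [Category.{v''} A] [Abelian A] {B : Type u} [Category.{v} B] [Abelian B]

/-- Extension to `ℤ` commutes with additive functors. -/
noncomputable def mapExtendIso (T : A ⥤ B) [T.Additive] (L : CochainComplex A ℕ) :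
    (T.mapHomologicalComplex (.up ℤ)).obj (L.extend ComplexShape.embeddingUpNat) ≅
      ((T.mapHomologicalComplex (.up ℕ)).obj L).extend ComplexShape.embeddingUpNat :=
  HomologicalComplex.Hom.isoOfComponents (fun n =>
    match n with
    | .ofNat k => T.mapIso (L.extendXIso ComplexShape.embeddingUpNat (i := k) (by simp)) ≪≫
        (((T.mapHomologicalComplex (.up ℕ)).obj L).extendXIso ComplexShape.embeddingUpNat
          (i := k) (by simp)).symm
    | .negSucc k =>
      (T.map_isZero (L.isZero_extend_X ComplexShape.embeddingUpNat _ (fun i => by simp))).iso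
        (HomologicalComplex.isZero_extend_X _ _ _ (fun i => by simp))) (by
    rintro i j rfl
    cases i with
    | negSucc k =>
      exact (T.map_isZero (L.isZero_extend_X ComplexShape.embeddingUpNat _ (fun i => by simp))).eq_of_src _ _
    | ofNat k =>
      change (T.map (L.extendXIso ComplexShape.embeddingUpNat (i := k) (by simp)).hom ≫
          (((T.mapHomologicalComplex (.up ℕ)).obj L).extendXIso ComplexShape.embeddingUpNat (i := k) (by simp)).inv) ≫
          (((T.mapHomologicalComplex (.up ℕ)).obj L).extend ComplexShape.embeddingUpNat).d _ (Int.ofNat (k + 1)) =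
        T.map ((L.extend ComplexShape.embeddingUpNat).d _ (Int.ofNat (k + 1))) ≫
          (T.map (L.extendXIso ComplexShape.embeddingUpNat (i := k + 1) (by simp)).hom ≫
          (((T.mapHomologicalComplex (.up ℕ)).obj L).extendXIso ComplexShape.embeddingUpNat (i := k + 1) (by simp)).inv)
      rw [L.extend_d_eq ComplexShape.embeddingUpNat (i := k) (j := k + 1) (by simp) (by simp),
        HomologicalComplex.extend_d_eq _ ComplexShape.embeddingUpNat (i := k) (j := k + 1) (by simp) (by simp)]
      refine (Category.assoc _ _ _).trans ((congrArg _ (Iso.inv_hom_id_assoc _ _)).trans ?_)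
      refine Eq.trans ?_ (Category.assoc _ _ _)
      refine Eq.trans ?_ (congrArg (· ≫ _) (T.map_comp _ _))
      rw [Category.assoc, Category.assoc, Iso.inv_hom_id, Category.comp_id, T.map_comp]
      exact (Category.assoc _ _ _).symm)

variable [HasInjectiveResolutions A]

/-- Isomorphic functors have isomorphic right derived functors. -/
noncomputable def rightDerivedCongr {F F' : A ⥤ B} [F.Additive] [F'.Additive] (e : F ≅ F')
    (n : ℕ) (X : A) : (F.rightDerived n).obj X ≅ (F'.rightDerived n).obj X :=
  (injectiveResolution X).isoRightDerivedObj F n ≪≫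
    (HomologicalComplex.homologyFunctor B _ n).mapIso
      ((NatIso.mapHomologicalComplex e _).app (injectiveResolution X).cocomplex) ≪≫
    ((injectiveResolution X).isoRightDerivedObj F' n).symm

variable [IsGrothendieckAbelian.{v} B] {C : Type u'} [Category.{v'} C] [Abelian C]

/-- **The Grothendieck spectral sequence** `RᵖT(RqG M) ⇒ Rⁿ(G ⋙ T) M`. -/
theorem exists_spectralSequence (G : A ⥤ B) [G.Additive] (T : B ⥤ C) [T.Additive]
    [PreservesFiniteLimits T]
    (hG : ∀ (I : A) [Injective I] (p : ℕ), IsZero ((T.rightDerived (p + 1)).obj (G.obj I)))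
    (M : A) (H : ℤ → C) (eH : ∀ n : ℕ, Nonempty (((G ⋙ T).rightDerived n).obj M ≅ H n))
    (hH : ∀ n : ℤ, n < 0 → IsZero (H n))
    (P : ℤ → ℤ → C)
    (eP : ∀ p q : ℕ, Nonempty ((T.rightDerived p).obj ((G.rightDerived q).obj M) ≅ P p q))
    (hP : ∀ p q : ℤ, ¬ (0 ≤ p ∧ 0 ≤ q) → IsZero (P p q)) :
    ∃ (E : E₂CohomologicalSpectralSequence C) (a : SpSeq.Abutment E H),
      (∀ n, a.IsFinite n) ∧ SpSeq.IsBounded E ∧
      ∀ p q : ℤ, Nonempty ((E.page 2 le_rfl).X (p, q) ≅ P p q) := by
  let R := injectiveResolution M
  let K : CochainComplex B ℤ := (G.mapHomologicalComplex (.up ℤ)).obj R.cochainComplex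
  haveI : K.IsStrictlyGE 0 := (CochainComplex.isStrictlyGE_iff K 0).2 fun i hi =>
    G.map_isZero (CochainComplex.isZero_of_isStrictlyGE R.cochainComplex 0 i hi)
  let e₀ : (T.mapHomologicalComplex (.up ℤ)).obj K ≅
      ((G ⋙ T).mapHomologicalComplex (.up ℤ)).obj R.cochainComplex :=
    HomologicalComplex.Hom.isoOfComponents (fun _ => Iso.refl _) (fun i j _ =>
      (Category.id_comp _).trans (Category.comp_id _).symm)
  let eH' : ∀ n : ℤ, ((T.mapHomologicalComplex (.up ℤ)).obj K).homology n ≅ H n := fun n =>
    if h : n < 0 then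
      (ShortComplex.isZero_homology_of_isZero_X₂ _ (T.map_isZero
        (CochainComplex.isZero_of_isStrictlyGE K 0 n h))).iso (hH n h)
    else
      (HomologicalComplex.homologyFunctor C (.up ℤ) n).mapIso
        (e₀ ≪≫ mapExtendIso (G ⋙ T) R.cocomplex) ≪≫
      (((G ⋙ T).mapHomologicalComplex (.up ℕ)).obj R.cocomplex).extendHomologyIso
        ComplexShape.embeddingUpNat (j := n.toNat) (by simp; lia) ≪≫
      (R.isoRightDerivedObj (G ⋙ T) n.toNat).symm ≪≫ (eH n.toNat).some ≪≫
      eqToIso (congrArg H (by lia))
  refine Grothendieck.exists_spectralSequence T K (fun k p => hG _ p) H eH' P (fun p q => ?_) hP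
  obtain ⟨e⟩ := eP p q
  exact ⟨(T.rightDerived p).mapIso
    ((HomologicalComplex.homologyFunctor B (.up ℤ) q).mapIso (mapExtendIso G R.cocomplex) ≪≫
      ((G.mapHomologicalComplex (.up ℕ)).obj R.cocomplex).extendHomologyIso
        ComplexShape.embeddingUpNat (j := q) (by simp) ≪≫
      (R.isoRightDerivedObj G q).symm) ≪≫ e⟩

end Groth.Agent.Lib.SpecSeq.Composite
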