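import Groth.Agent.Lib.SpecSeq.HomExt
import Mathlib.Algebra.Homology.DerivedCategory.Ext.ExtClass
import Mathlib.Algebra.Homology.DerivedCategory.Ext.ExactSequences
import Mathlib.Algebra.Homology.DerivedCategory.Ext.EnoughInjectives
import Mathlib.Algebra.Homology.GrothendieckAbelian
import Mathlib.Algebra.Homology.HomologySequence
import Mathlib.Algebra.Homology.SingleHomology
import Mathlib.Algebra.Category.Grp.AB
import Mathlib.Algebra.Category.Grp.Zero
import Mathlib.CategoryTheory.Abelian.GrothendieckCategory.EnoughInjectives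

/-!
# `Extᵖ` out of `ℤ` in degree `0` is the cohomology of a complex
-/

universe v u

open CategoryTheory Limits Abelian

namespace Groth.Agent.Lib.SpecSeq.CxExt

section Injective

variable {A : Type*} [Category A] [Abelian A]

/-- The contractible-in-positive-degrees envelope of a complex. -/
noncomputable abbrev cone (K : CochainComplex A ℕ) : CochainComplex A ℕ :=
  CochainComplex.of (fun n => K.X n ⊞ K.X (n + 1)) (fun n => biprod.snd ≫ biprod.inl) (fun n => by simp)

lemma cone_d (K : CochainComplex A ℕ) (n : ℕ) : (cone K).d n (n + 1) = biprod.snd ≫ biprod.inl :=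
  CochainComplex.of_d (fun n => K.X n ⊞ K.X (n + 1)) (fun n => biprod.snd ≫ biprod.inl) n

/-- The embedding in the envelope. -/
noncomputable def coneι (K : CochainComplex A ℕ) : K ⟶ cone K where
  f n := biprod.lift (𝟙 _) (K.d n (n + 1))
  comm' := by
    rintro i j (rfl : i + 1 = j)
    rw [cone_d, biprod.lift_snd_assoc]
    apply biprod.hom_ext <;> simp

instance (K : CochainComplex A ℕ) : Mono (coneι K) :=
  have : ∀ n, Mono ((coneι K).f n) := fun n => mono_of_mono_fac (biprod.lift_fst (𝟙 _) (K.d n (n + 1)))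
  HomologicalComplex.mono_of_mono_f _ this

/-- Injective complexes have no cohomology in positive degrees. -/
theorem isZero_homology_of_injective (I : CochainComplex A ℕ) [Injective I] (n : ℕ) :
    IsZero (I.homology (n + 1)) := by
  let r := Injective.factorThru (𝟙 I) (coneι I)
  have hr : coneι I ≫ r = 𝟙 I := Injective.comp_factorThru _ _
  let y : I.cycles (n + 1) ⟶ (cone I).X n :=
    I.iCycles (n + 1) ≫ (biprod.inr : I.X (n + 1) ⟶ I.X n ⊞ I.X (n + 1))
  have hz : I.iCycles (n + 1) ≫ (coneι I).f (n + 1) = y ≫ (cone I).d n (n + 1) := by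
    rw [cone_d]
    apply biprod.hom_ext <;> simp [coneι, y]
  have h1 : (y ≫ r.f n ≫ I.toCycles n (n + 1)) = 𝟙 _ := by
    rw [← cancel_mono (I.iCycles (n + 1))]
    simp only [Category.assoc]
    rw [I.toCycles_i,
      r.comm, ← Category.assoc, ← hz, Category.assoc, ← HomologicalComplex.comp_f, hr,
      HomologicalComplex.id_f, Category.comp_id, Category.id_comp]
  rw [IsZero.iff_id_eq_zero, ← cancel_epi (I.homologyπ (n + 1)), comp_zero, Category.comp_id,
    ← Category.id_comp (I.homologyπ (n + 1)), ← h1]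
  simp

end Injective

/-- The integers, lifted. -/
noncomputable abbrev Z : AddCommGrpCat.{u} := AddCommGrpCat.of (ULift.{u} ℤ)

/-- `ℤ` in degree `0`. -/
noncomputable abbrev X : CochainComplex AddCommGrpCat.{u} ℕ :=
  (HomologicalComplex.single AddCommGrpCat.{u} (ComplexShape.up ℕ) 0).obj Z.{u}

/-- Homomorphisms out of `ℤ` are elements. -/
noncomputable def eval₁ (M : AddCommGrpCat.{u}) : (Z.{u} ⟶ M) ≃+ M where
  toFun f := f ⟨1⟩
  invFun m := AddCommGrpCat.ofHom ((zmultiplesHom M m).comp AddEquiv.ulift.toAddMonoidHom)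
  left_inv f := by
    ext ⟨k⟩
    change k • f ⟨1⟩ = f ⟨k⟩
    rw [← map_zsmul]
    congr 1
    ext
    simp
  right_inv m := by
    change (1 : ℤ) • m = m
    exact one_zsmul m
  map_add' _ _ := rfl

variable (L : CochainComplex AddCommGrpCat.{u} ℕ)

/-- Maps out of `ℤ` in degree `0` give zeroth cohomology classes. -/
noncomputable def ψ : (X.{u} ⟶ L) →+ L.homology 0 :=
  AddMonoidHom.mk' (fun f => L.homologyπ 0 (eval₁ _ (L.liftCycles (f.f 0) 1 (by simp)
      (f.comm 0 1 |>.trans (by rw [HomologicalComplex.single_obj_d, zero_comp]; try rfl)))))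
    (fun f g => by
      rw [← map_add, ← map_add]
      congr 2
      rw [← cancel_mono (L.iCycles 0), Preadditive.add_comp, HomologicalComplex.liftCycles_i,
        HomologicalComplex.liftCycles_i, HomologicalComplex.liftCycles_i]
      rfl)

lemma bijective_ψ : Function.Bijective (ψ L) := by
  have hπ : Function.Bijective (L.homologyπ 0) := ConcreteCategory.bijective_of_isIso _
  refine hπ.comp ((eval₁ _).bijective.comp ⟨fun f g h => ?_, fun c => ?_⟩)
  · have h' := congrArg (· ≫ L.iCycles 0) h
    simp only [HomologicalComplex.liftCycles_i] at h'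
    exact HomologicalComplex.from_single_hom_ext h'
  · refine ⟨HomologicalComplex.mkHomFromSingle (c ≫ L.iCycles 0) (fun i hi => by simp), ?_⟩
    rw [← cancel_mono (L.iCycles 0), HomologicalComplex.liftCycles_i]
    exact HomologicalComplex.mkHomFromSingle_f (c ≫ L.iCycles 0) _

variable {L} in
lemma ψ_comp {L' : CochainComplex AddCommGrpCat.{u} ℕ} (f : X.{u} ⟶ L) (g : L ⟶ L') :
    ψ L' (f ≫ g) = HomologicalComplex.homologyMap g 0 (ψ L f) := by
  change L'.homologyπ 0 (eval₁ _ _) = HomologicalComplex.homologyMap g 0 (L.homologyπ 0 (eval₁ _ _))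
  refine Eq.trans ?_ (ConcreteCategory.congr_hom (HomologicalComplex.homologyπ_naturality g 0) _).symm
  refine congrArg (L'.homologyπ 0) ?_
  refine congrArg (fun t => t (⟨1⟩ : ULift.{u} ℤ)) (Eq.trans ?_
    (HomologicalComplex.liftCycles_comp_cyclesMap (K := L) (f.f 0) 1 (by simp)
      (f.comm 0 1 |>.trans (by rw [HomologicalComplex.single_obj_d, zero_comp])) g).symm)
  rfl

variable [HasExt.{u} (CochainComplex AddCommGrpCat.{u} ℕ)]

/-- The embedding in an injective complex. -/
noncomputable abbrev emb (K : CochainComplex AddCommGrpCat.{u} ℕ) :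
    ShortComplex (CochainComplex AddCommGrpCat.{u} ℕ) :=
  ShortComplex.mk (Injective.ι K) (cokernel.π _) (cokernel.condition _)

lemma emb_shortExact (K : CochainComplex AddCommGrpCat.{u} ℕ) : (emb K).ShortExact where
  exact := ShortComplex.exact_of_g_is_cokernel _ (cokernelIsCokernel _)

/-- `Extᵖ(ℤ[0], L) ≅ Hᵖ(L)`. -/
theorem nonempty_extEquiv (p : ℕ) : ∀ L : CochainComplex AddCommGrpCat.{u} ℕ,
    Nonempty (Ext X.{u} L p ≃+ L.homology p) := by
  induction p with
  | zero => exact fun L => ⟨Ext.addEquiv₀.trans (AddEquiv.ofBijective (ψ L) (bijective_ψ L))⟩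
  | succ p ih =>
    intro L
    have hS := emb_shortExact L
    let Q := (emb L).X₃
    have hI : ∀ q, IsZero ((emb L).X₂.homology (q + 1)) := fun q =>
      have : Injective (emb L).X₂ := inferInstanceAs (Injective (Injective.under L))
      isZero_homology_of_injective _ q
    have hJ : ∀ q, ∀ x : Ext X (emb L).X₂ (q + 1), x = 0 := fun q x =>
      have : Injective (emb L).X₂ := inferInstanceAs (Injective (Injective.under L))
      Ext.eq_zero_of_injective x
    let δE : Ext X Q p →+ Ext X L (p + 1) := hS.extClass.postcomp X rfl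
    have hsur : Function.Surjective δE := fun x =>
      Ext.covariant_sequence_exact₁ X hS x (hJ p _) rfl
    have hker : ∀ y, δE y = 0 ↔ ∃ t : Ext X (emb L).X₂ p,
        t.comp (Ext.mk₀ (emb L).g) (add_zero p) = y := fun y => by
      refine ⟨fun h => Ext.covariant_sequence_exact₃ X hS y rfl h, ?_⟩
      rintro ⟨t, rfl⟩
      refine (Ext.comp_assoc (a₁₂ := p) (a₂₃ := 1) t (Ext.mk₀ (emb L).g) hS.extClass (add_zero p)
        (zero_add 1) (by omega)).trans ?_
      exact (congrArg (fun v => t.comp v rfl) hS.comp_extClass).trans (Ext.comp_zero _ _ _ _ _)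
    cases p with
    | zero =>
      let a : (X ⟶ Q) →+ Ext X L 1 := δE.comp Ext.addEquiv₀.symm.toAddMonoidHom
      let b : (X ⟶ Q) →+ L.homology 1 := (hS.δ 0 1 rfl).hom.comp (ψ Q)
      have hb : Function.Surjective b :=
        fun x => by
          obtain ⟨q, hq⟩ := (ShortComplex.ab_exact_iff _).1 (hS.homology_exact₁ 0 1 rfl) x
            (@Subsingleton.elim _ (AddCommGrpCat.subsingleton_of_isZero (hI 0)) _ _)
          obtain ⟨f, rfl⟩ := (bijective_ψ Q).2 q
          exact ⟨f, hq⟩
      have key : ∀ f, a f = 0 ↔ b f = 0 := fun f => by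
        refine (hker _).trans ⟨?_, fun h => ?_⟩
        · rintro ⟨t, ht⟩
          obtain ⟨t, rfl⟩ := (Ext.mk₀_bijective _ _).2 t
          rw [Ext.mk₀_comp_mk₀] at ht
          obtain rfl := (Ext.mk₀_bijective _ _).1 ht
          change hS.δ 0 1 rfl (ψ Q (t ≫ (emb L).g)) = 0
          rw [ψ_comp]
          exact ConcreteCategory.congr_hom (hS.comp_δ 0 1 rfl) _
        · obtain ⟨h', hh'⟩ := (ShortComplex.ab_exact_iff _).1 (hS.homology_exact₃ 0 1 rfl) _ h
          obtain ⟨t, rfl⟩ := (bijective_ψ _).2 h'
          have := (bijective_ψ Q).1 ((ψ_comp t (emb L).g).trans hh')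
          exact ⟨Ext.mk₀ t, by rw [Ext.mk₀_comp_mk₀, this]; rfl⟩
      exact ⟨((QuotientAddGroup.quotientKerEquivOfSurjective a
        (hsur.comp Ext.addEquiv₀.symm.surjective)).symm.trans
        (QuotientAddGroup.quotientAddEquivOfEq (by ext f; exact key f))).trans
        (QuotientAddGroup.quotientKerEquivOfSurjective b hb)⟩
    | succ p =>
      have hinj : Function.Injective δE := (injective_iff_map_eq_zero _).2 fun y hy => by
        obtain ⟨t, rfl⟩ := (hker y).1 hy
        rw [hJ p t, Ext.zero_comp]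
      exact ⟨(AddEquiv.ofBijective δE ⟨hinj, hsur⟩).symm.trans ((ih Q).some.trans
        (hS.δIso (p + 1) (p + 1 + 1) rfl (hI p) (hI (p + 1))).addCommGroupIsoToAddEquiv)⟩

/-- The right derived functors of `Hom(ℤ[0], -)` are the cohomology groups. -/
theorem nonempty_rightDerived_iso (L : CochainComplex AddCommGrpCat.{u} ℕ) (p : ℕ) :
    Nonempty (((HomExt.homFunctor X.{u}).rightDerived p).obj L ≅ L.homology p) :=
  ⟨HomExt.rightDerivedIso X L p ≪≫ (nonempty_extEquiv p L).some.toAddCommGrpIso⟩

end Groth.Agent.Lib.SpecSeq.CxExt
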