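import Groth.Agent.Lib.SpecSeq.AcyclicComplex
import Groth.Agent.Lib.DerCat.TStruct
import Mathlib.CategoryTheory.Triangulated.TStructure.SpectralObject
import Mathlib.Algebra.Homology.SpectralObject.HasSpectralSequence

/-!
# The spectral object of a complex and a left exact functor
-/

set_option linter.unusedSectionVars false
set_option linter.style.haveILetI false

universe w v u v' u'

open CategoryTheory Category Limits Pretriangulated ComposableArrows

namespace Groth.Agent.Lib.SpecSeq.DerivedObj

section

variable {D : Type u} [Category.{v} D] [Preadditive D] [HasZeroObject D] [HasShift D ℤ]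
  [∀ (n : ℤ), (shiftFunctor D n).Additive] [Pretriangulated D]
  {A : Type u'} [Category.{v'} A] [Abelian A] {ι : Type} [Category.{0} ι]

/-- The spectral object in an abelian category given by a homological functor. -/
noncomputable def mapHomological (X : Triangulated.SpectralObject D ι) (F : D ⥤ A)
    [F.IsHomological] [F.ShiftSequence ℤ] : Abelian.SpectralObject A ι where
  H n := X.ω₁ ⋙ F.shift n
  δ' n₀ n₁ h :=
    { app := fun d => F.homologySequenceδ (X.ω₂.obj d) n₀ n₁ h
      naturality := fun _ _ f => F.homologySequenceδ_naturality _ _ (X.ω₂.map f) n₀ n₁ h }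
  exact₁' n₀ n₁ h d :=
    (F.homologySequence_exact₁ _ (X.ω₂_obj_distinguished d) n₀ n₁ h).exact_toComposableArrows
  exact₂' n d :=
    (F.homologySequence_exact₂ _ (X.ω₂_obj_distinguished d) n).exact_toComposableArrows
  exact₃' n₀ n₁ h d :=
    (F.homologySequence_exact₃ _ (X.ω₂_obj_distinguished d) n₀ n₁ h).exact_toComposableArrows

end

open RightHom AcyclicComplex

variable {B : Type u} [Category.{v} B] [Abelian B] [HasDerivedCategory.{w} B]
  [(DerivedCategory.Qh (C := B)).IsLeftAdjoint]
  {C : Type u'} [Category.{v'} C] [Abelian C] (T : B ⥤ C) [T.Additive]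

/-- The spectral object of an object of the derived category. -/
noncomputable def obj (Y : DerivedCategory B) : Abelian.SpectralObject C EInt :=
  mapHomological (DerivedCategory.TStructure.t.spectralObject Y) (RH0 T)

variable [EnoughInjectives B] [PreservesFiniteLimits T]

instance obj_isFirstQuadrant (Y : DerivedCategory B) [Y.IsGE 0] : (obj T Y).IsFirstQuadrant where
  isZero₁ i j hij hj n := by
    change IsZero ((RH T n).obj ((DerivedCategory.TStructure.t.eTruncGE.obj i).obj
      ((DerivedCategory.TStructure.t.eTruncLT.obj j).obj Y)))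
    refine Functor.map_isZero _ (Functor.map_isZero _ ?_)
    induction j using WithBotTop.rec with
    | bot => exact Functor.zero_obj _
    | coe b =>
      have : DerivedCategory.TStructure.t.IsGE Y b :=
        DerivedCategory.TStructure.t.isGE_of_ge Y b 0 (by simpa using hj)
      exact DerivedCategory.TStructure.t.isZero_truncLT_obj_of_isGE b Y
    | top => simp at hj
  isZero₂ i j hij n hi := by
    change IsZero ((RH T n).obj ((DerivedCategory.TStructure.t.eTruncGE.obj i).obj
      ((DerivedCategory.TStructure.t.eTruncLT.obj j).obj Y)))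
    induction i using WithBotTop.rec with
    | bot => simp at hi
    | coe a =>
      haveI : DerivedCategory.IsGE ((DerivedCategory.TStructure.t.truncGE a).obj
          ((DerivedCategory.TStructure.t.eTruncLT.obj j).obj Y)) a :=
        inferInstanceAs (DerivedCategory.TStructure.t.IsGE
          ((DerivedCategory.TStructure.t.truncGE a).obj _) a)
      exact isZero_RH_of_isGE T ((DerivedCategory.TStructure.t.truncGE a).obj
          ((DerivedCategory.TStructure.t.eTruncLT.obj j).obj Y)) a n (by simpa using hi)
    | top => exact Functor.map_isZero _ (Functor.zero_obj _)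

variable (K : CochainComplex B ℤ)

/-- The total term. -/
noncomputable def totIso [K.IsStrictlyGE 0] (hK : ∀ k, Acyc T (K.X k)) (n : ℤ) :
    ((obj T (DerivedCategory.Q.obj K)).H n).obj (mk₁ (homOfLE (bot_le : (⊥ : EInt) ≤ ⊤))) ≅
      ((T.mapHomologicalComplex (.up ℤ)).obj K).homology n :=
  have := isIso_cmp_of_acyclic T K hK n
  (asIso ((cmp T n).app K)).symm

/-- Homology of an elementary truncation. -/
noncomputable def truncHomologyIso (q : ℤ) :
    (DerivedCategory.homologyFunctor B q).obj ((DerivedCategory.TStructure.t.truncGE q).obj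
      ((DerivedCategory.TStructure.t.truncLT (q + 1)).obj (DerivedCategory.Q.obj K))) ≅
      K.homology q :=
  have h₁ : IsIso ((DerivedCategory.homologyFunctor B q).map
      ((DerivedCategory.TStructure.t.truncLTι (q + 1)).app (DerivedCategory.Q.obj K))) :=
    @DerCat.TStruct.isIso_homologyMap_mor₁ _ _ _ _ _
      (DerivedCategory.TStructure.t.triangleLTGE_distinguished (q + 1) (DerivedCategory.Q.obj K))
      (q + 1) (inferInstance : DerivedCategory.TStructure.t.IsGE
        ((DerivedCategory.TStructure.t.truncGE (q + 1)).obj _) (q + 1)) q (by lia)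
  have h₂ : IsIso ((DerivedCategory.homologyFunctor B q).map
      ((DerivedCategory.TStructure.t.truncGEπ q).app
        ((DerivedCategory.TStructure.t.truncLT (q + 1)).obj (DerivedCategory.Q.obj K)))) :=
    @DerCat.TStruct.isIso_homologyMap_mor₂ _ _ _ _ _
      (DerivedCategory.TStructure.t.triangleLTGE_distinguished q _)
      (q - 1) (inferInstance : DerivedCategory.TStructure.t.IsLE
        ((DerivedCategory.TStructure.t.truncLT q).obj _) (q - 1)) q (by lia)
  (@asIso _ _ _ _ _ h₂).symm ≪≫ @asIso _ _ _ _ _ h₁ ≪≫
    (DerivedCategory.homologyFunctorFactors B q).app K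

/-- The `E₂` term. -/
lemma nonempty_layerIso (p q : ℤ) :
    Nonempty (((obj T (DerivedCategory.Q.obj K)).H (p + q)).obj
      (mk₁ (homOfLE (show (((q : ℤ) : EInt)) ≤ (q + 1 : ℤ) by simp))) ≅ RS T p (K.homology q)) := by
  let Y := (DerivedCategory.TStructure.t.truncGE q).obj
      ((DerivedCategory.TStructure.t.truncLT (q + 1)).obj (DerivedCategory.Q.obj K))
  have : Y.IsGE q := inferInstanceAs (DerivedCategory.TStructure.t.IsGE Y q)
  have : Y.IsLE q := by
    rw [DerivedCategory.isLE_iff]
    intro i hi
    have h₂ : IsIso ((DerivedCategory.homologyFunctor B i).map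
        ((DerivedCategory.TStructure.t.truncGEπ q).app
          ((DerivedCategory.TStructure.t.truncLT (q + 1)).obj (DerivedCategory.Q.obj K)))) :=
      @DerCat.TStruct.isIso_homologyMap_mor₂ _ _ _ _ _
        (DerivedCategory.TStructure.t.triangleLTGE_distinguished q _)
        (q - 1) (inferInstance : DerivedCategory.TStructure.t.IsLE
          ((DerivedCategory.TStructure.t.truncLT q).obj _) (q - 1)) i (by lia)
    exact IsZero.of_iso (@DerivedCategory.isZero_of_isLE _ _ _ _ _ (q + 1 - 1) i (by lia)
      (inferInstance : DerivedCategory.TStructure.t.IsLE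
        ((DerivedCategory.TStructure.t.truncLT (q + 1)).obj _) (q + 1 - 1)))
      (@asIso _ _ _ _ _ h₂).symm
  obtain ⟨M, ⟨e⟩⟩ := DerivedCategory.exists_iso_singleFunctor_obj_of_isGE_of_isLE Y q
  have eM : M ≅ K.homology q :=
    ((DerivedCategory.singleFunctorCompHomologyFunctorIso B q).app M).symm ≪≫
      (DerivedCategory.homologyFunctor B q).mapIso e.symm ≪≫ truncHomologyIso K q
  exact ⟨(RH T (p + q)).mapIso (e ≪≫
      (((DerivedCategory.singleFunctors B).shiftIso (-q) q 0 (by lia)).app M).symm) ≪≫
    ((RH0 T).shiftIso (-q) (p + q) p (by lia)).app _ ≪≫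
    (RH T p).mapIso ((DerivedCategory.singleFunctor B 0).mapIso eM)⟩

omit [(DerivedCategory.Qh (C := B)).IsLeftAdjoint] [EnoughInjectives B] in
/-- Extension to `ℤ` commutes with additive functors. -/
noncomputable def mapExtendIso (L : CochainComplex B ℕ) :
    (T.mapHomologicalComplex (.up ℤ)).obj (L.extend ComplexShape.embeddingUpNat) ≅
      ((T.mapHomologicalComplex (.up ℕ)).obj L).extend ComplexShape.embeddingUpNat :=
  HomologicalComplex.Hom.isoOfComponents (fun n =>
    match n with
    | .ofNat k => T.mapIso (L.extendXIso ComplexShape.embeddingUpNat (i := k) (by simp)) ≪≫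
        (((T.mapHomologicalComplex (.up ℕ)).obj L).extendXIso ComplexShape.embeddingUpNat
          (i := k) (by simp)).symm
    | .negSucc k =>
      (T.map_isZero (L.isZero_extend_X ComplexShape.embeddingUpNat _ (fun i => by simp))).iso
        (HomologicalComplex.isZero_extend_X _ _ _ (fun i => by simp))) (by
    rintro i j rfl
    cases i with
    | negSucc k =>
      exact (T.map_isZero (L.isZero_extend_X ComplexShape.embeddingUpNat _ (fun i => by simp))).eq_of_src _ _
    | ofNat k =>
      change (T.map (L.extendXIso ComplexShape.embeddingUpNat (i := k) (by simp)).hom ≫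
          (((T.mapHomologicalComplex (.up ℕ)).obj L).extendXIso ComplexShape.embeddingUpNat (i := k) (by simp)).inv) ≫
          (((T.mapHomologicalComplex (.up ℕ)).obj L).extend ComplexShape.embeddingUpNat).d _ (Int.ofNat (k + 1)) =
        T.map ((L.extend ComplexShape.embeddingUpNat).d _ (Int.ofNat (k + 1))) ≫
          (T.map (L.extendXIso ComplexShape.embeddingUpNat (i := k + 1) (by simp)).hom ≫
          (((T.mapHomologicalComplex (.up ℕ)).obj L).extendXIso ComplexShape.embeddingUpNat (i := k + 1) (by simp)).inv)
      rw [L.extend_d_eq ComplexShape.embeddingUpNat (i := k) (j := k + 1) (by simp) (by simp),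
        HomologicalComplex.extend_d_eq _ ComplexShape.embeddingUpNat (i := k) (j := k + 1) (by simp) (by simp)]
      refine (Category.assoc _ _ _).trans ((congrArg _ (Iso.inv_hom_id_assoc _ _)).trans ?_)
      refine Eq.trans ?_ (Category.assoc _ _ _)
      refine Eq.trans ?_ (congrArg (· ≫ _) (T.map_comp _ _))
      rw [Category.assoc, Category.assoc, Iso.inv_hom_id, Category.comp_id, T.map_comp]
      exact (Category.assoc _ _ _).symm)

/-- `RH` of an object is its right derived functor. -/
noncomputable def rightDerivedIso [HasInjectiveResolutions B] (p : ℕ) (M : B) :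
    RS T p M ≅ (T.rightDerived p).obj M :=
  let R := injectiveResolution M
  have := isKInjective_of_isStrictlyGE R.cochainComplex 0 inferInstance
  have := isIso_cmp_of_isKInjective T p R.cochainComplex
  have : IsIso (DerivedCategory.Q.map R.ι') :=
    (DerivedCategory.isIso_Q_map_iff_quasiIso _ R.ι').2 inferInstance
  (RH T p).mapIso ((DerivedCategory.singleFunctorIsoCompQ B 0).app M ≪≫
    asIso (DerivedCategory.Q.map R.ι')) ≪≫ (asIso ((cmp T p).app R.cochainComplex)).symm ≪≫
    (HomologicalComplex.homologyFunctor C (.up ℤ) p).mapIso (mapExtendIso T R.cocomplex) ≪≫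
    ((T.mapHomologicalComplex (.up ℕ)).obj R.cocomplex).extendHomologyIso ComplexShape.embeddingUpNat
      (j := p) (by simp) ≪≫
    (R.isoRightDerivedObj T p).symm

end Groth.Agent.Lib.SpecSeq.DerivedObj
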