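import Groth.Agent.Lib.SpecSeq.Converge
import Groth.Agent.Lib.SpecSeq.DerivedObj

/-!
# The spectral sequence of a left exact functor applied to a complex of acyclic objects

For a left exact additive functor `T : B ⥤ C` out of a Grothendieck abelian category and a complex
`K` in degrees `≥ 0` of `T`-acyclic objects, there is a bounded spectral sequence with
`E₂^{p,q} ≅ RᵖT(Hq K)` abutting to `Hⁿ(T K)`.
-/

set_option linter.style.haveILetI false

universe w v u v' u'

open CategoryTheory Category Limits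

namespace Groth.Agent.Lib.SpecSeq.Grothendieck

section Transport

variable {C : Type u'} [Category.{v'} C] [Abelian C] {r₀ : ℤ}
  {E : CohomologicalSpectralSequence C r₀} {H H' : ℤ → C}

/-- An isomorphism of objects identifies subquotients. -/
noncomputable def grPieceMapIso {X Y : C} (e : X ≅ Y) (F : ℤ → Subobject X) (hF : Antitone F)
    (hF' : Antitone fun p => (Subobject.map e.hom).obj (F p)) (p : ℤ) :
    SpSeq.grPiece F hF p ≅ SpSeq.grPiece (fun p => (Subobject.map e.hom).obj (F p)) hF' p :=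
  let i : ∀ q, (F q : C) ≅ (((Subobject.map e.hom).obj (F q) : Subobject Y) : C) := fun q =>
    (Subobject.underlyingIso ((F q).arrow ≫ e.hom)).symm ≪≫ eqToIso (congrArg _ (by
      refine ((Subobject.map_mk (F q).arrow e.hom).symm.trans ?_)
      rw [Subobject.mk_arrow]))
  have key : ∀ (S : Subobject Y) (q : ℤ) (h : Subobject.mk ((F q).arrow ≫ e.hom) = S),
      (Subobject.underlyingIso ((F q).arrow ≫ e.hom)).inv ≫
        eqToHom (congrArg (fun Z : Subobject Y => (Z : C)) h) ≫ S.arrow = (F q).arrow ≫ e.hom := by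
    rintro S q rfl
    simp
  have hi : ∀ q, (i q).hom ≫ ((Subobject.map e.hom).obj (F q)).arrow = (F q).arrow ≫ e.hom :=
    fun q => (Category.assoc _ _ _).trans (key _ q
      ((Subobject.map_mk (F q).arrow e.hom).symm.trans (by rw [Subobject.mk_arrow])))
  cokernel.mapIso _ _ (i (p + 1)) (i p) (by
    rw [← cancel_mono ((Subobject.map e.hom).obj (F p)).arrow, Category.assoc, hi, Category.assoc,
      Subobject.ofLE_arrow, hi, Subobject.ofLE_arrow_assoc])

/-- Transport of an abutment along isomorphisms of the limit objects. -/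
noncomputable def abutmentOfIso (a : SpSeq.Abutment E H) (e : ∀ n, H n ≅ H' n) :
    SpSeq.Abutment E H' where
  fil n p := (Subobject.map (e n).hom).obj (a.fil n p)
  anti n _ _ h := ((Subobject.map (e n).hom).map (homOfLE (a.anti n h))).le
  rk := a.rk
  stat := a.stat
  β pq := a.β pq ≪≫ grPieceMapIso (e _) _ _ _ _

lemma abutmentOfIso_isFinite (a : SpSeq.Abutment E H) (e : ∀ n, H n ≅ H' n) (n : ℤ)
    (h : a.IsFinite n) : (abutmentOfIso a e).IsFinite n := by
  obtain ⟨⟨i, hi⟩, ⟨j, hj⟩⟩ := h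
  refine ⟨⟨i, ?_⟩, ⟨j, ?_⟩⟩
  · change (Subobject.map (e n).hom).obj (a.fil n i) = ⊤
    rw [show a.fil n i = ⊤ from hi, Subobject.map_top, Subobject.mk_eq_top_of_isIso]
  · change (Subobject.map (e n).hom).obj (a.fil n j) = ⊥
    rw [show a.fil n j = ⊥ from hj, Subobject.map_bot]

end Transport

open RightHom AcyclicComplex DerivedObj

variable {B : Type u} [Category.{v} B] [Abelian B] [IsGrothendieckAbelian.{v} B]
  {C : Type u'} [Category.{v'} C] [Abelian C] (T : B ⥤ C) [T.Additive] [PreservesFiniteLimits T]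

/-- **The spectral sequence `RᵖT(Hq K) ⇒ Hⁿ(T K)`.** -/
theorem exists_spectralSequence (K : CochainComplex B ℤ) [K.IsStrictlyGE 0]
    (hK : ∀ (k : ℤ) (p : ℕ), IsZero ((T.rightDerived (p + 1)).obj (K.X k)))
    (H : ℤ → C) (eH : ∀ n, ((T.mapHomologicalComplex (.up ℤ)).obj K).homology n ≅ H n)
    (P : ℤ → ℤ → C) (eP : ∀ p q : ℕ, Nonempty ((T.rightDerived p).obj (K.homology q) ≅ P p q))
    (hP : ∀ p q : ℤ, ¬ (0 ≤ p ∧ 0 ≤ q) → IsZero (P p q)) :
    ∃ (E : E₂CohomologicalSpectralSequence C) (a : SpSeq.Abutment E H),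
      (∀ n, a.IsFinite n) ∧ SpSeq.IsBounded E ∧
      ∀ p q : ℤ, Nonempty ((E.page 2 le_rfl).X (p, q) ≅ P p q) := by
  letI := HasDerivedCategory.standard B
  have hK' : ∀ k, Acyc T (K.X k) := fun k n hn => by
    obtain ⟨p, rfl⟩ : ∃ p : ℕ, n = ((p + 1 : ℕ) : ℤ) := ⟨(n - 1).toNat, by lia⟩
    exact IsZero.of_iso (hK k p) (rightDerivedIso T (p + 1) (K.X k))
  let X := obj T (DerivedCategory.Q.obj K)
  let e : ∀ n, Converge.tot X n ≅ H n := fun n => totIso T K hK' n ≪≫ eH n
  refine ⟨X.E₂SpectralSequence, abutmentOfIso (Converge.abutment X) e,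
    fun n => abutmentOfIso_isFinite _ _ _ (Converge.abutment_isFinite X n), Converge.isBounded X,
    fun p q => ?_⟩
  by_cases h : 0 ≤ p ∧ 0 ≤ q
  · obtain ⟨p, rfl⟩ := Int.eq_ofNat_of_zero_le h.1
    obtain ⟨q, rfl⟩ := Int.eq_ofNat_of_zero_le h.2
    obtain ⟨e₁⟩ := eP p q
    obtain ⟨e₂⟩ := nonempty_layerIso T K p q
    exact ⟨Converge.page2Iso X p q ≪≫ e₂ ≪≫ rightDerivedIso T p _ ≪≫ e₁⟩
  · exact ⟨(Converge.isZero_page X 2 le_rfl p q (by lia)).iso (hP p q h)⟩

end Groth.Agent.Lib.SpecSeq.Grothendieck
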