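import Mathlib.CategoryTheory.Abelian.Projective.Ext
import Mathlib.Algebra.Homology.ShortComplex.Ab
import Mathlib.Algebra.Homology.ShortComplex.Exact

/-!
# `Ext` as cohomology of `Hom` out of a projective resolution
-/

universe v u

open CategoryTheory Limits Opposite Abelian

namespace Groth.Agent.Lib.SpecSeq.ProjExt

variable {B : Type u} [Category.{v} B] [Abelian B] [HasExt.{v} B]
  {X Y : B} (R : ProjectiveResolution X)

/-- In degree zero, `extMk` is injective. -/
lemma eq_zero_of_extMk_eq_zero (f : R.complex.X 0 ⟶ Y) (hf : R.complex.d 1 0 ≫ f = 0)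
    (h : R.extMk f 1 rfl hf = 0) : f = 0 := by
  simp only [← R.extEquivCohomologyClass.apply_eq_iff_eq,
    ProjectiveResolution.extEquivCohomologyClass_extMk,
    ProjectiveResolution.extEquivCohomologyClass_zero,
    CochainComplex.HomComplex.CohomologyClass.mk_eq_zero_iff] at h
  rw [CochainComplex.HomComplex.Cocycle.toSingleMk_mem_coboundaries_iff _ _ _ _ _ (1 : ℤ)
    (by lia)] at h
  obtain ⟨g, hg⟩ := h
  have hz : g = 0 :=
    (CochainComplex.isZero_of_isStrictlyLE R.cochainComplex 0 1 (by lia)).eq_of_src _ _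
  rw [hz, comp_zero] at hg
  exact (cancel_epi (R.cochainComplexXIso (-(0 : ℕ)) 0 rfl).hom).1 (hg.symm.trans comp_zero.symm)

variable (K : CochainComplex AddCommGrpCat.{v} ℕ) (e : ∀ n, K.X n ≃+ (R.complex.X n ⟶ Y))
  (he : ∀ (n : ℕ) (x : K.X n), e (n + 1) (K.d n (n + 1) x) = R.complex.d (n + 1) n ≫ e n x)

/-- A cocycle as a morphism. -/
noncomputable def cocycle (n : ℕ) (z : K.cycles n) : R.complex.X n ⟶ Y := e n (K.iCycles n z)

lemma cocycle_add (n : ℕ) (a b : K.cycles n) :
    cocycle R K e n (a + b) = cocycle R K e n a + cocycle R K e n b :=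
  (congrArg (e n) (map_add (K.iCycles n).hom a b)).trans (map_add (e n) _ _)

include he

lemma d_cocycle (n : ℕ) (z : K.cycles n) :
    R.complex.d (n + 1) n ≫ cocycle R K e n z = 0 :=
  (he n _).symm.trans ((congrArg (e (n + 1))
    (ConcreteCategory.congr_hom (K.iCycles_d n (n + 1)) z)).trans (map_zero (e (n + 1))))

/-- The class of a cocycle. -/
noncomputable def cyclesMap (n : ℕ) : K.cycles n ⟶ AddCommGrpCat.of (Ext X Y n) :=
  AddCommGrpCat.ofHom (AddMonoidHom.mk'
    (fun z => R.extMk (cocycle R K e n z) (n + 1) rfl (d_cocycle R K e he n z))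
    (fun a b => by
      rw [ProjectiveResolution.add_extMk]
      congr 1
      exact cocycle_add R K e n a b))

lemma cyclesMap_apply (n : ℕ) (z : K.cycles n) : cyclesMap R K e he n z =
    R.extMk (cocycle R K e n z) (n + 1) rfl (d_cocycle R K e he n z) := rfl

lemma toCycles_cyclesMap (n : ℕ) :
    K.toCycles ((ComplexShape.up ℕ).prev n) n ≫ cyclesMap R K e he n = 0 := by
  cases n with
  | zero =>
    have : K.toCycles ((ComplexShape.up ℕ).prev 0) 0 = 0 := by
      rw [← cancel_mono (K.iCycles 0), HomologicalComplex.toCycles_i, zero_comp,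
        K.shape _ _ (by simp)]
    rw [this, zero_comp]
  | succ m =>
    rw [show (ComplexShape.up ℕ).prev (m + 1) = m by simp]
    ext x
    refine (R.extMk_eq_zero_iff _ (m + 2) rfl (d_cocycle R K e he (m + 1) _) m rfl).2 ⟨e m x, ?_⟩
    exact (he m x).symm.trans
      (congrArg (e (m + 1)) (ConcreteCategory.congr_hom (K.toCycles_i m (m + 1)) x).symm)

/-- Cohomology classes as `Ext` classes. -/
noncomputable def homologyMap (n : ℕ) : K.homology n ⟶ AddCommGrpCat.of (Ext X Y n) :=
  (K.homologyIsCokernel _ n rfl).desc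
    (CokernelCofork.ofπ (cyclesMap R K e he n) (toCycles_cyclesMap R K e he n))

lemma homologyπ_homologyMap (n : ℕ) :
    K.homologyπ n ≫ homologyMap R K e he n = cyclesMap R K e he n :=
  (K.homologyIsCokernel _ n rfl).fac _ WalkingParallelPair.one

lemma bijective_homologyMap (n : ℕ) : Function.Bijective (homologyMap R K e he n) := by
  have hπ : ∀ z, homologyMap R K e he n (K.homologyπ n z) = cyclesMap R K e he n z := fun z =>
    ConcreteCategory.congr_hom (homologyπ_homologyMap R K e he n) z
  constructor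
  · rw [injective_iff_map_eq_zero]
    intro h hh
    obtain ⟨z, rfl⟩ := (AddCommGrpCat.epi_iff_surjective (K.homologyπ n)).1 inferInstance h
    rw [hπ, cyclesMap_apply] at hh
    have hinj := (AddCommGrpCat.mono_iff_injective (K.iCycles n)).1 inferInstance
    cases n with
    | zero =>
      have : z = 0 := hinj ((e 0).injective
        ((eq_zero_of_extMk_eq_zero R _ _ hh).trans ((congrArg (e 0) (map_zero _)).trans
          (map_zero (e 0))).symm))
      rw [this, map_zero]
    | succ m =>
      obtain ⟨g, hg⟩ := (R.extMk_eq_zero_iff _ (m + 2) rfl _ m rfl).1 hh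
      obtain ⟨x, rfl⟩ := (e m).surjective g
      have : z = K.toCycles m (m + 1) x := hinj ((e (m + 1)).injective
        (hg.symm.trans ((he m x).symm.trans (congrArg (e (m + 1))
          (ConcreteCategory.congr_hom (K.toCycles_i m (m + 1)) x).symm))))
      rw [this]
      exact ConcreteCategory.congr_hom (K.toCycles_comp_homologyπ m (m + 1)) x
  · intro a
    obtain ⟨f, hf, rfl⟩ := R.extMk_surjective a (n + 1) rfl
    obtain ⟨x, rfl⟩ := (e n).surjective f
    obtain ⟨z, hz⟩ := (ShortComplex.ab_exact_iff _).1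
      (ShortComplex.exact_of_f_is_kernel
        (ShortComplex.mk (K.iCycles n) (K.d n (n + 1)) (K.iCycles_d n (n + 1)))
        (K.cyclesIsKernel n (n + 1) (by simp))) x
      ((e (n + 1)).injective ((he n x).trans (hf.trans (map_zero _).symm)))
    refine ⟨K.homologyπ n z, ?_⟩
    rw [hπ, cyclesMap_apply]
    congr 1
    exact congrArg (e n) hz

/-- `Hⁿ(K) ≅ Extⁿ(X, Y)`. -/
noncomputable def homologyIso (n : ℕ) : K.homology n ≅ AddCommGrpCat.of (Ext X Y n) :=
  haveI : IsIso (homologyMap R K e he n) :=
    (ConcreteCategory.isIso_iff_bijective _).2 (bijective_homologyMap R K e he n)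
  asIso (homologyMap R K e he n)

end Groth.Agent.Lib.SpecSeq.ProjExt
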