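import Groth.Prelude.Def_SpSeq
import Mathlib.Data.Int.Interval
import Mathlib.Algebra.Homology.SpectralObject.FirstPage

/-!
# Convergence of the `E₂` spectral sequence of a first quadrant spectral object
-/

universe v u

open CategoryTheory Category Limits ComposableArrows

namespace Groth.Agent.Lib.SpecSeq.Converge

open CategoryTheory.Abelian SpectralObject

variable {C : Type u} [Category.{v} C] [Abelian C] (X : Abelian.SpectralObject C EInt)

/-- The total object. -/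
noncomputable abbrev tot (n : ℤ) : C := (X.H n).obj (mk₁ (homOfLE (bot_le : (⊥ : EInt) ≤ ⊤)))

/-- The opcycles `opZ^n(⊥ ≤ a ≤ ⊤)`. -/
noncomputable abbrev oz (n : ℤ) (a : EInt) : C :=
  X.opcycles (homOfLE (bot_le : (⊥ : EInt) ≤ a)) (homOfLE (le_top : a ≤ ⊤)) n

/-- Its inclusion in the total object. -/
noncomputable abbrev ι (n : ℤ) (a : EInt) : oz X n a ⟶ tot X n :=
  X.fromOpcycles (homOfLE (bot_le : (⊥ : EInt) ≤ a)) (homOfLE (le_top : a ≤ ⊤))
    (homOfLE (bot_le : (⊥ : EInt) ≤ ⊤)) (Subsingleton.elim _ _) n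

/-- The step of the filtration indexed by `a`. -/
noncomputable abbrev sub (n : ℤ) (a : EInt) : Subobject (tot X n) := Subobject.mk (ι X n a)

/-- The transition map. -/
noncomputable abbrev trans (n : ℤ) (a b : EInt) (h : a ≤ b) : oz X n a ⟶ oz X n b :=
  X.opcyclesMap (homOfLE (bot_le : (⊥ : EInt) ≤ a)) (homOfLE (le_top : a ≤ ⊤))
    (homOfLE (bot_le : (⊥ : EInt) ≤ b)) (homOfLE (le_top : b ≤ ⊤))
    (threeδ₂Toδ₁ (homOfLE (bot_le : (⊥ : EInt) ≤ a)) (homOfLE h)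
      (homOfLE (le_top : b ≤ ⊤)) (homOfLE (bot_le : (⊥ : EInt) ≤ b))
      (homOfLE (le_top : a ≤ (⊤ : EInt))) (Subsingleton.elim _ _) (Subsingleton.elim _ _)) n

lemma trans_ι (n : ℤ) (a b : EInt) (h : a ≤ b) : trans X n a b h ≫ ι X n b = ι X n a := by
  have h' : homOfLE (bot_le : (⊥ : EInt) ≤ b) ≫ homOfLE (le_top : b ≤ ⊤) =
      homOfLE (bot_le : (⊥ : EInt) ≤ ⊤) := Subsingleton.elim _ _
  refine (X.opcyclesMap_fromOpcycles (homOfLE (bot_le : (⊥ : EInt) ≤ a)) (homOfLE (le_top : a ≤ ⊤))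
    _ _ (homOfLE (bot_le : (⊥ : EInt) ≤ ⊤)) (Subsingleton.elim _ _) _ h' _
    (𝟙 (mk₁ (homOfLE (bot_le : (⊥ : EInt) ≤ ⊤)))) n (Subsingleton.elim _ _) (Subsingleton.elim _ _)).trans ?_
  rw [CategoryTheory.Functor.map_id, Category.comp_id]

lemma sub_mono (n : ℤ) {a b : EInt} (h : a ≤ b) : sub X n a ≤ sub X n b :=
  Subobject.mk_le_mk_of_comm (trans X n a b h) (trans_ι X n a b h)

/-- The subquotient of the filtration is the page at infinity. -/
noncomputable def subquotIso (n : ℤ) {a b : EInt} (h : a ≤ b) :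
    SpSeq.subquot (sub X n b) (sub X n a) (sub_mono X n h) ≅
      X.E (homOfLE (bot_le : (⊥ : EInt) ≤ a)) (homOfLE h) (homOfLE (le_top : b ≤ ⊤))
        (n - 1) n (n + 1) :=
  cokernel.mapIso _ (trans X n a b h) (Subobject.underlyingIso _) (Subobject.underlyingIso _)
      (by
        rw [Subobject.ofLE_mk_le_mk_of_comm (trans X n a b h) (trans_ι X n a b h),
          Category.assoc, Category.assoc, Iso.inv_hom_id, Category.comp_id]) ≪≫
    IsColimit.coconePointUniqueUpToIso (cokernelIsCokernel _)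
      (X.shortComplexOpcyclesThreeδ₂Toδ₁_shortExact (homOfLE (bot_le : (⊥ : EInt) ≤ a))
        (homOfLE h) (homOfLE (le_top : b ≤ ⊤)) (homOfLE (bot_le : (⊥ : EInt) ≤ b))
        (homOfLE (le_top : a ≤ (⊤ : EInt))) (Subsingleton.elim _ _) (Subsingleton.elim _ _)
        (n - 1) n (n + 1)).gIsCokernel

lemma sub_eq_bot (n : ℤ) (a : EInt)
    (h : IsZero ((X.H n).obj (mk₁ (homOfLE (bot_le : (⊥ : EInt) ≤ a))))) : sub X n a = ⊥ :=
  Subobject.mk_eq_bot_iff_zero.2 ((X.isZero_opcycles _ _ _ h).eq_of_src _ _)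

lemma sub_eq_top (n : ℤ) (a : EInt)
    (h : IsZero ((X.H n).obj (mk₁ (homOfLE (le_top : a ≤ (⊤ : EInt)))))) : sub X n a = ⊤ :=
  have := X.isIso_fromOpcycles (homOfLE (bot_le : (⊥ : EInt) ≤ a)) (homOfLE (le_top : a ≤ ⊤))
    (homOfLE (bot_le : (⊥ : EInt) ≤ ⊤)) (Subsingleton.elim _ _) n h
  Subobject.isIso_iff_mk_eq_top _ |>.1 this

variable [X.IsFirstQuadrant]

lemma isZero_page (r : ℤ) (hr : 2 ≤ r) (p q : ℤ) (h : p < 0 ∨ q < 0) :
    IsZero ((X.E₂SpectralSequence.page r).X ⟨p, q⟩) := by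
  rcases h with h | h
  · exact isZero_spectralSequence_page_X_of_isZero_H' _ _ _ hr _
      (X.isZero₂_of_isFirstQuadrant _ _ _ _ (by simp; lia))
  · exact isZero_spectralSequence_page_X_of_isZero_H' _ _ _ hr _
      (X.isZero₁_of_isFirstQuadrant _ _ _ (by simp; lia) _)

/-- A page from which the position is stationary. -/
def rk (pq : ℤ × ℤ) : ℤ := max 2 (max (pq.1 + 1) (max (pq.2 + 2) (pq.1 + 3)))

lemma stat (pq : ℤ × ℤ) : SpSeq.StationaryAt X.E₂SpectralSequence pq (rk pq) := by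
  refine ⟨le_max_left _ _, fun r h₀ hr => ⟨?_, ?_⟩⟩
  · exact (isZero_page X r h₀ _ _ (Or.inl (by simp only [rk] at hr; dsimp; lia))).eq_of_src _ _
  · exact (isZero_page X r h₀ _ _ (Or.inr (by simp only [rk] at hr; dsimp; lia))).eq_of_tgt _ _

/-- The stationary page is the page at infinity. -/
noncomputable def pageRkIso (p q : ℤ) :
    (X.E₂SpectralSequence.page (rk (p, q)) (le_max_left _ _)).X (p, q) ≅
      X.E (homOfLE (bot_le : (⊥ : EInt) ≤ (q : ℤ))) (homOfLE (show (((q : ℤ) : EInt)) ≤ (q + 1 : ℤ) by simp))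
        (homOfLE (le_top : (((q + 1 : ℤ) : EInt)) ≤ ⊤)) (p + q - 1) (p + q) (p + q + 1) :=
  let r := rk (p, q)
  X.spectralSequencePageXIso coreE₂Cohomological r (le_max_left _ _) (p, q)
      ((q - r + 2 : ℤ) : EInt) (q : ℤ) ((q + 1 : ℤ) : EInt) ((q + r - 1 : ℤ) : EInt) rfl rfl rfl rfl
      (p + q - 1) (p + q) (p + q + 1) rfl ≪≫
    (X.isoMapFourδ₁Toδ₀' ⊥ ((q - r + 2 : ℤ) : EInt) (q : ℤ) ((q + 1 : ℤ) : EInt) ((q + r - 1 : ℤ) : EInt)
      bot_le (by simp [r, rk]; lia) (by simp) (by simp [r, rk]; lia) (p + q - 1) (p + q) (p + q + 1)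
      (X.isZero₁_of_isFirstQuadrant _ _ _ (by simp [r, rk]; lia) _)).symm ≪≫
    X.isoMapFourδ₄Toδ₃' ⊥ (q : ℤ) ((q + 1 : ℤ) : EInt) ((q + r - 1 : ℤ) : EInt) ⊤
      bot_le (by simp) (by simp [r, rk]; lia) le_top (p + q - 1) (p + q) (p + q + 1)
      (X.isZero₂_of_isFirstQuadrant _ _ _ _ (by simp [r, rk]; lia))

omit [X.IsFirstQuadrant] in
lemma fil_antitone (n : ℤ) : Antitone (fun p : ℤ => sub X n ((n - p + 1 : ℤ) : EInt)) := fun p p' h =>
  sub_mono X n (WithBotTop.coe_le_coe.2 (by lia))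

/-- The abutment. -/
noncomputable def abutment : SpSeq.Abutment X.E₂SpectralSequence (tot X) where
  fil n p := sub X n ((n - p + 1 : ℤ) : EInt)
  anti := fil_antitone X
  rk := rk
  stat := stat X
  β := fun ⟨p, q⟩ => pageRkIso X p q ≪≫
    (subquotIso X (p + q) (show (((q : ℤ) : EInt)) ≤ (q + 1 : ℤ) by simp)).symm ≪≫
    eqToIso (by
      have h₁ : q + 1 = p + q - p + 1 := by lia
      have h₂ : q = p + q - (p + 1) + 1 := by lia
      unfold SpSeq.grPiece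
      congr 1 <;> congr 1 <;> exact_mod_cast congrArg (fun i : ℤ => (i : EInt)) (by assumption))

lemma abutment_isFinite (n : ℤ) : (abutment X).IsFinite n := by
  refine ⟨⟨-1, sub_eq_top X n _ ?_⟩, ⟨n + 1, sub_eq_bot X n _ ?_⟩⟩
  · exact X.isZero₂_of_isFirstQuadrant _ _ _ _ (WithBotTop.coe_lt_coe.2 (by lia))
  · exact X.isZero₁_of_isFirstQuadrant _ _ _ (WithBotTop.coe_le_coe.2 (by lia)) _

lemma isBounded : SpSeq.IsBounded X.E₂SpectralSequence := by
  intro n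
  refine (Set.finite_Icc (a := (0 : ℤ)) (b := n)).subset fun p hp => ?_
  by_contra h
  exact hp (isZero_page X 2 le_rfl p (n - p) (by simp only [Set.mem_Icc] at h; lia))

/-- The `E₂` terms. -/
noncomputable def page2Iso (p q : ℤ) :
    (X.E₂SpectralSequence.page 2 le_rfl).X (p, q) ≅
      (X.H (p + q)).obj (mk₁ (homOfLE (show (((q : ℤ) : EInt)) ≤ (q + 1 : ℤ) by simp))) :=
  X.spectralSequenceFirstPageXIso coreE₂Cohomological (p, q) (q : ℤ) ((q + 1 : ℤ) : EInt) rfl rfl (p + q) rfl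

end Groth.Agent.Lib.SpecSeq.Converge
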